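import Cfsg.Agent.Lib.CG.Uni

/-! Homomorphisms out of a Chevalley group defined on the root elements. -/

set_option autoImplicit false
set_option linter.unusedSectionVars false
set_option maxHeartbeats 400000

namespace CA.CG

open Cfsg.Lie Cfsg.Lie.ChevalleyDatum CA.Chev CA.Weyl CA.BN Matrix

variable {D : ChevalleyDatum} [hD : IsRoot D] {F : Type*} [Field F] {G : Type*} [Group G]

/-- Steinberg's relations (R1), (R2) and the action of the `n_i`, `h_i(c)` of the fundamental roots. -/
structure WFam (x : Rt D → F → G) : Prop extends StRel x where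
  nconj : ∀ i s t, nG x (Chev.simple i) 1 * x s t * (nG x (Chev.simple i) 1)⁻¹ =
    x (sRefl i s) (eta (Chev.simple i) s * t)
  hconj : ∀ i s c t, c ≠ 0 →
    hG x (Chev.simple i) c * x s t * (hG x (Chev.simple i) c)⁻¹ = x s (c ^ wt s i * t)

theorem WFam.of_map {G' : Type*} [Group G'] {x : Rt D → F → G} (f : G →* G') (hf : Function.Injective f)
    (hx : WFam fun r t => f (x r t)) : WFam x where
  add r t u := hf (by rw [map_mul, hx.add])
  comm r s h1 h2 t u := hf (by rw [map_mul, map_mul, map_mul, map_wordG, hx.comm r s h1 h2])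
  nconj i s t := hf (by rw [map_mul, map_mul, map_inv, map_nG, hx.nconj])
  hconj i s c t hc := hf (by rw [map_mul, map_mul, map_inv, map_hG, hx.hconj i s c t hc])

theorem WFam.prod {G' : Type*} [Group G'] {x : Rt D → F → G} {y : Rt D → F → G'} (hx : WFam x)
    (hy : WFam y) : WFam fun r t => (x r t, y r t) where
  add r t u := Prod.ext (hx.add r t u) (hy.add r t u)
  comm r s h1 h2 t u := Prod.ext
    ((hx.comm r s h1 h2 t u).trans
      (congrArg _ (map_wordG (MonoidHom.fst G G') (fun r t => (x r t, y r t)) _).symm))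
    ((hy.comm r s h1 h2 t u).trans
      (congrArg _ (map_wordG (MonoidHom.snd G G') (fun r t => (x r t, y r t)) _).symm))
  nconj i s t := Prod.ext (hx.nconj i s t) (hy.nconj i s t)
  hconj i s c t hc := Prod.ext (hx.hconj i s c t hc) (hy.hconj i s c t hc)

variable [hE : IsEta D]

theorem WFam.of_stFam {x : Rt D → F → G} (hx : StFam x) : WFam x where
  toStRel := hx.toStRel
  nconj i s t := by simpa using hx.nconj (Chev.simple i) s 1 t one_ne_zero
  hconj i s c t hc := by simpa using hx.hconj (Chev.simple i) s hc t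

/-- The Chevalley system of a weak family. -/
def WFam.toSys {M : CoxeterMatrix (Nd D)} (h : CartanCox (cartA D) M) {x : Rt D → F → G} (hx : WFam x)
    (hgen : XS (rtX x) (fun _ => True) = ⊤)
    (hnd : ∀ i r t, ¬ Pos r → x (Chev.simple i) 1 ≠ x r t) : ChevSys (rs h) F G where
  x := x
  add := hx.add
  comm := fun r s h1 h2 t u => comm_mem hx.toStRel h1 h2 (fun k i j hi hj e t =>
    le_XS (cone_of_wt_eq h (by exact_mod_cast hi) (by exact_mod_cast hj) e) (x_mem_rtX k t)) t u
  nconj := fun i s => ⟨eta (Chev.simple i) s, eta_mul_self' _ _, fun t => by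
    rw [rs_act_simple]; exact hx.nconj i s t, fun t => by
    have := hx.nconj i (Chev.neg s) t
    rw [hE.eta_neg] at this
    rw [rs_act_simple]; exact this⟩
  hconj := fun i c hc s => ⟨c ^ wt s i, fun t => hx.hconj _ s c t hc⟩
  gen := hgen
  nondeg := fun i r t hr => hnd i r t (by simpa using hr)

variable [hM : MatFacts D F]

theorem wFam_xg : WFam (xg (D := D) (F := F)) := WFam.of_stFam stFam_xg

/-- The kernel of a homomorphism onto the Chevalley group is central. -/
theorem WFam.ker_le_center {x : Rt D → F → G} (hx : WFam x) (hgen : XS (rtX x) (fun _ => True) = ⊤)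
    (θ : G →* D.group F) (hθ : ∀ r t, θ (x r t) = xg r t) : θ.ker ≤ Subgroup.center G := by
  let h := cartanCox_coxM D
  let C := hx.toSys h hgen (nondeg_of_hom' θ hθ)
  have key : θ.ker ≤ C.H := by
    intro g hg
    have hxe : (fun r t => θ (x r t)) = xg := by funext r t; exact hθ r t
    obtain ⟨w, n, hn, a, ha, u, hu, rfl⟩ := C.rgd0.bruhat g
    have hH : ∀ k ∈ C.H, θ k ∈ (gam F h).H := by
      refine fun k hk => (Subgroup.closure_le ((gam F h).H.comap θ)).2 ?_ hk
      rintro _ ⟨r, t, ht, rfl⟩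
      change θ (hG x r t) ∈ (gam F h).H
      rw [map_hG, hxe]
      exact (sys F h).h_mem r ht
    have hnw : ∀ ω, θ (C.nw ω) = (sys F h).nw ω := by
      intro ω
      induction ω with
      | nil => simp
      | cons i ω ih =>
        rw [ChevSys.nw_cons, ChevSys.nw_cons, map_mul, ih]
        congr 1
        change θ (nG x _ _) = nG xg _ _
        rw [map_nG, hxe]
    obtain ⟨ω, rfl⟩ := (rs h).cs.wordProd_surjective w
    have h1 : (gam F h).Rep (θ n) ((rs h).cs.wordProd ω) := by
      refine (sys F h).rep_iff.2 ?_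
      rw [← hnw, ← map_inv, ← map_mul]
      exact hH _ (C.rep_iff.1 hn)
    rw [MonoidHom.mem_ker, map_mul, map_mul] at hg
    obtain ⟨h2, h3, -, -⟩ := RGD.bruhat_unique h1 (RGD0.rep_one_iff.2 (Subgroup.one_mem _))
      (map_XS_mem θ hθ ha) (Subgroup.one_mem _) (map_XS_mem θ hθ hu) (Subgroup.one_mem _)
      (by simpa using hg)
    rw [h2] at hn hu
    rw [RGD0.Uw_one, Subgroup.mem_bot] at hu
    rw [hu, eq_one_of_map hx.toStRel θ hθ (fun r hr => (rs_pos h r).1 hr) ha h3, one_mul, mul_one]
    exact RGD0.rep_one_iff.1 hn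
  intro g hg
  have h1 := C.sc_of_mem_H (key hg)
  have h2 : XS (rtX x) (fun _ => True) ≤ Subgroup.centralizer {g} := by
    refine XS_le.2 fun r _ y hy => ?_
    obtain ⟨t, rfl⟩ := (mem_rtX' hx.toStRel).1 hy
    obtain ⟨k, -, hk⟩ := h1 r
    have e : g * x r t * g⁻¹ = x r (k * t) := hk t
    have e' := congrArg θ e
    rw [map_mul, map_mul, map_inv, MonoidHom.mem_ker.1 hg, hθ, hθ, one_mul, inv_one, mul_one] at e'
    rw [← xg_injective r e', mul_inv_eq_iff_eq_mul] at e
    exact Subgroup.mem_centralizer_singleton_iff.2 e.symm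
  rw [hgen] at h2
  exact Subgroup.mem_center_iff.2 fun y =>
    Subgroup.mem_centralizer_singleton_iff.1 (h2 (Subgroup.mem_top y))

/-- A weak family generating a group with trivial centre is the image of the root elements under a
homomorphism. -/
theorem WFam.exists_hom {y : Rt D → F → G} (hy : WFam y) (hgen : XS (rtX y) (fun _ => True) = ⊤)
    (hZ : Subgroup.center G = ⊥) : ∃ σ : D.group F →* G, ∀ r t, σ (xg r t) = y r t := by
  let P : Subgroup (D.group F × G) := Subgroup.closure {g | ∃ r t, g = (xg r t, y r t)}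
  let z : Rt D → F → P := fun r t => ⟨(xg r t, y r t), Subgroup.subset_closure ⟨r, t, rfl⟩⟩
  have hz : WFam z := WFam.of_map P.subtype P.subtype_injective (wFam_xg.prod hy)
  have hzg : XS (rtX z) (fun _ => True) = ⊤ := by
    rw [eq_top_iff, ← Subgroup.closure_closure_coe_preimage, Subgroup.closure_le]
    rintro ⟨g, hg⟩ ⟨r, t, rfl⟩
    exact le_XS (S := fun _ => True) trivial (x_mem_rtX r t)
  let θ : P →* D.group F := (MonoidHom.fst _ _).comp P.subtype
  let ψ : P →* G := (MonoidHom.snd _ _).comp P.subtype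
  have hθ := surjective_of_hom (x := z) θ fun _ _ => rfl
  have hψ : Function.Surjective ψ := by
    rw [← MonoidHom.range_eq_top, eq_top_iff, ← hgen, XS_le]
    intro r _ g hg
    obtain ⟨t, rfl⟩ := (mem_rtX' hy.toStRel).1 hg
    exact ⟨z r t, rfl⟩
  have hk : θ.ker ≤ ψ.ker := fun g hg => by
    rw [MonoidHom.mem_ker, ← Subgroup.mem_bot, ← hZ, Subgroup.mem_center_iff]
    intro a
    obtain ⟨a, rfl⟩ := hψ a
    rw [← map_mul, ← map_mul, Subgroup.mem_center_iff.1 (hz.ker_le_center hzg θ (fun _ _ => rfl) hg) a]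
  exact ⟨θ.liftOfSurjective hθ ⟨ψ, hk⟩, fun r t => θ.liftOfRightInverse_comp_apply _ _ ⟨ψ, hk⟩ (z r t)⟩

theorem exists_hom_of_stFam {y : Rt D → F → G} (hy : StFam y) (hgen : XS (rtX y) (fun _ => True) = ⊤)
    (hZ : Subgroup.center G = ⊥) : ∃ σ : D.group F →* G, ∀ r t, σ (xg r t) = y r t :=
  (WFam.of_stFam hy).exists_hom hgen hZ

end CA.CG
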