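import Cfsg.Agent.Lib.CG.TwG2
import Cfsg.Agent.Lib.CG.SL2Pres

/-! The group `²G₂(3)` contains `SL₂(8)`. -/

set_option autoImplicit false
set_option maxHeartbeats 400000
set_option backward.isDefEq.respectTransparency false

namespace CA.CG

open Cfsg.Lie Cfsg.Lie.ChevalleyDatum CA.Chev Matrix
open scoped MatrixGroups

theorem evS_apply {D : ChevalleyDatum} {F : Type*} [Field F] (z : D.Idx) (v : List ℕ) : ∀ k,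
    evS D F k v z = if k ≤ enc z then (v.getD (enc z - k) 0 : F) else 0 := by
  induction v with
  | nil => intro k; simp [evS]
  | cons c v ih =>
    intro k
    rw [evS, Pi.add_apply, ih, Pi.smul_apply, bas]
    rcases lt_trichotomy k (enc z) with h | h | h
    · obtain ⟨j, hj⟩ : ∃ j, enc z - k = j + 1 := ⟨enc z - k - 1, by omega⟩
      rw [if_neg h.ne', if_pos (by omega), if_pos h.le, hj, show enc z - (k + 1) = j by omega]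
      simp
    · simp [h]
    · rw [if_neg h.ne, if_neg (by omega), if_neg (by omega)]
      simp

theorem RepM.entry {D : ChevalleyDatum} {F : Type*} [Field F] {g : D.group F} {A B : List (List ℕ)}
    (h : RepM g A) (h' : RepM g B) (j : ℕ) (z : D.Idx) :
    ((A.getD j []).getD (enc z) 0 : F) = ((B.getD j []).getD (enc z) 0 : F) := by
  simpa [evS_apply] using congrFun ((h j).symm.trans (h' j)) z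

theorem RepM.eq' {D : ChevalleyDatum} {F : Type*} [Field F] {g g' : D.group F} {A B : List (List ℕ)}
    (h : RepM g A) (h' : RepM g' B) (e : A = B) : g = g' :=
  h.eq (e ▸ h')

theorem commutator_eq_range {S G : Type*} [Group S] [Group G] [IsSimpleGroup S] [Finite G] (φ : S →* G)
    (hφ : Function.Injective φ) (hS : ¬ (Nat.card S).Prime) (hG : Nat.card G = Nat.card S * 3) :
    commutator G = φ.range := by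
  haveI := Finite.of_injective φ hφ
  have h0 := Nat.card_congr (MonoidHom.ofInjective hφ).toEquiv
  have h1 : φ.range.index = 3 := by
    have := φ.range.card_mul_index
    rw [hG, ← h0] at this
    exact Nat.eq_of_mul_eq_mul_left Nat.card_pos this
  have h2 : commutator S = ⊤ := by
    refine (IsSimpleGroup.eq_bot_or_eq_top_of_normal _ inferInstance).resolve_left fun h => hS ?_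
    haveI : IsMulCommutative S := (commutator_eq_bot_iff _).1 h
    exact Group.is_simple_iff_prime_card.1 inferInstance
  have h3 : φ.range.Normal := by
    rcases IsSimpleGroup.eq_bot_or_eq_top_of_normal (φ.range.normalCore.comap φ) inferInstance with h | h
    · have h4 : φ.range.normalCore = ⊥ := by
        rw [← Subgroup.map_comap_eq_self φ.range.normalCore_le, h, Subgroup.map_bot]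
      have h5 : φ.range.normalCore.index ∣ φ.range.index.factorial := by
        rw [Subgroup.normalCore_eq_ker, Subgroup.index_ker, Subgroup.index_eq_card, ← Nat.card_perm]
        exact Subgroup.card_subgroup_dvd_card _
      rw [h4, Subgroup.index_bot, h1, hG] at h5
      have h6 := Nat.le_of_dvd (by decide) h5
      have h7 : 1 < Nat.card S := Finite.one_lt_card
      exact (hS (by rw [show Nat.card S = 2 by simp [Nat.factorial] at h6; omega]; decide)).elim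
    · convert φ.range.normalCore_normal
      refine le_antisymm ?_ φ.range.normalCore_le
      rintro _ ⟨s, rfl⟩
      exact (h ▸ Subgroup.mem_top s : s ∈ φ.range.normalCore.comap φ)
  refine le_antisymm ?_ ?_
  · haveI : Fact (Nat.Prime 3) := ⟨Nat.prime_three⟩
    haveI : IsCyclic (G ⧸ φ.range) := isCyclic_of_prime_card (p := 3) h1
    exact Subgroup.Normal.quotient_commutative_iff_commutator_le.1 inferInstance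
  · rw [MonoidHom.range_eq_map, ← h2, commutator_def, Subgroup.map_commutator]
    exact Subgroup.commutator_mono le_top le_top

namespace Ree3

/-- The generators as words. -/
def gW : List (List (ℕ × ℕ)) :=
  [reeN 1 0 0, reeN' 1 0 0, reeN 2 0 0, reeN' 2 0 0, reeN 0 1 0, reeN' 0 1 0, reeN 0 0 1, reeN' 0 0 1]

/-- The generators as matrices. -/
def gM : List (List (List ℕ)) :=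
  [[[1,2,0,0,0,1,1,0,0,0,2,1,1,0], [0,1,2,2,1,2,0,2,1,1,0,2,1,0], [0,0,1,2,1,0,0,1,2,1,0,0,0,0],
  [0,0,0,1,2,0,0,0,0,2,0,0,0,0], [0,0,0,0,1,0,0,2,2,2,0,0,1,0], [0,0,0,0,0,1,2,0,0,0,2,2,0,1],
  [0,0,0,0,0,0,1,0,2,1,1,0,0,0], [0,0,0,0,0,0,0,1,1,0,0,0,0,0], [0,0,0,0,0,0,0,0,1,1,0,0,0,0],
  [0,0,0,0,0,0,0,0,0,1,0,0,0,0], [0,0,0,0,0,0,0,0,0,0,1,1,0,0], [0,0,0,0,0,0,0,0,0,0,0,1,0,0],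
  [0,0,0,0,0,0,0,1,1,0,0,0,1,0], [0,0,0,0,0,0,1,1,1,0,1,0,0,1]], [[1,0,0,0,0,0,0,0,0,0,0,0,0,0],
  [1,1,0,0,0,0,0,0,0,0,0,0,0,0], [0,0,1,0,0,0,0,0,0,0,0,0,0,0], [0,0,1,1,0,0,0,0,0,0,0,0,0,0],
  [0,0,0,1,1,0,0,0,0,0,0,0,0,0], [0,1,1,2,0,1,0,0,0,0,0,0,0,0], [2,2,0,0,0,2,1,0,0,0,0,0,0,1],
  [0,0,2,2,2,0,0,1,0,0,0,0,1,0], [0,0,2,0,0,0,0,2,1,0,0,0,0,0], [0,0,1,2,1,0,0,1,2,1,0,0,0,0],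
  [2,0,1,1,2,0,2,1,2,2,1,0,1,0], [1,2,0,0,0,1,1,0,0,0,2,1,1,0], [0,0,0,1,1,0,0,0,0,0,0,0,1,0],
  [0,1,0,1,1,1,0,0,0,0,0,0,0,1]], [[1,1,0,0,0,1,1,0,0,0,1,1,2,0], [0,1,1,2,2,1,0,1,1,2,0,1,1,0],
  [0,0,1,1,1,0,0,1,1,1,0,0,0,0], [0,0,0,1,1,0,0,0,0,1,0,0,0,0], [0,0,0,0,1,0,0,2,1,2,0,0,2,0],
  [0,0,0,0,0,1,2,0,0,0,1,2,0,2], [0,0,0,0,0,0,1,0,1,1,2,0,0,0], [0,0,0,0,0,0,0,1,2,0,0,0,0,0],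
  [0,0,0,0,0,0,0,0,1,2,0,0,0,0], [0,0,0,0,0,0,0,0,0,1,0,0,0,0], [0,0,0,0,0,0,0,0,0,0,1,2,0,0],
  [0,0,0,0,0,0,0,0,0,0,0,1,0,0], [0,0,0,0,0,0,0,2,1,0,0,0,1,0], [0,0,0,0,0,0,2,2,1,0,1,0,0,1]],
  [[1,0,0,0,0,0,0,0,0,0,0,0,0,0], [2,1,0,0,0,0,0,0,0,0,0,0,0,0], [0,0,1,0,0,0,0,0,0,0,0,0,0,0],
  [0,0,2,1,0,0,0,0,0,0,0,0,0,0], [0,0,0,2,1,0,0,0,0,0,0,0,0,0], [0,2,1,1,0,1,0,0,0,0,0,0,0,0],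
  [2,1,0,0,0,2,1,0,0,0,0,0,0,2], [0,0,2,1,2,0,0,1,0,0,0,0,2,0], [0,0,1,0,0,0,0,1,1,0,0,0,0,0],
  [0,0,1,1,1,0,0,1,1,1,0,0,0,0], [1,0,2,1,1,0,1,2,2,1,1,0,1,0], [1,1,0,0,0,1,1,0,0,0,1,1,2,0],
  [0,0,0,1,2,0,0,0,0,0,0,0,1,0], [0,1,0,1,2,2,0,0,0,0,0,0,0,1]], [[1,0,2,0,1,1,1,2,0,2,0,2,0,0],
  [0,1,0,0,0,0,0,0,0,0,2,0,1,1], [0,0,1,0,1,0,0,1,0,2,0,0,0,0], [0,0,0,1,0,0,0,0,2,0,0,0,1,0],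
  [0,0,0,0,1,0,0,0,0,2,0,0,0,0], [0,0,0,0,0,1,0,2,0,2,0,2,0,0], [0,0,0,0,0,0,1,0,0,0,0,2,0,0],
  [0,0,0,0,0,0,0,1,0,2,0,0,0,0], [0,0,0,0,0,0,0,0,1,0,0,0,0,0], [0,0,0,0,0,0,0,0,0,1,0,0,0,0],
  [0,0,0,0,0,0,0,0,0,0,1,0,0,0], [0,0,0,0,0,0,0,0,0,0,0,1,0,0], [0,0,0,0,0,0,0,0,1,0,0,0,1,0],
  [0,0,0,0,0,0,0,0,2,0,1,0,0,1]], [[1,0,0,0,0,0,0,0,0,0,0,0,0,0], [0,1,0,0,0,0,0,0,0,0,0,0,0,0],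
  [0,0,1,0,0,0,0,0,0,0,0,0,0,0], [0,0,0,1,0,0,0,0,0,0,0,0,0,0], [0,0,2,0,1,0,0,0,0,0,0,0,0,0],
  [2,0,0,0,0,1,0,0,0,0,0,0,0,0], [2,0,2,0,2,0,1,0,0,0,0,0,0,0], [0,0,2,0,0,0,0,1,0,0,0,0,0,0],
  [0,0,0,2,0,0,0,0,1,0,0,0,1,0], [0,0,2,0,1,0,0,1,0,1,0,0,0,0], [0,2,0,0,0,0,0,0,0,0,1,0,1,1],
  [2,0,2,0,2,1,1,1,0,2,0,1,0,0], [0,0,0,1,0,0,0,0,0,0,0,0,1,0], [0,1,0,2,0,0,0,0,0,0,0,0,0,1]],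
  [[1,0,0,1,0,0,0,2,0,2,1,2,1,2], [0,1,0,0,1,0,1,0,1,0,0,2,0,0], [0,0,1,0,0,0,0,0,1,2,0,0,2,0],
  [0,0,0,1,0,0,0,1,0,2,0,0,0,0], [0,0,0,0,1,0,0,0,2,0,0,0,0,0], [0,0,0,0,0,1,0,0,0,0,2,0,0,0],
  [0,0,0,0,0,0,1,0,0,0,0,0,0,0], [0,0,0,0,0,0,0,1,0,0,0,0,0,0], [0,0,0,0,0,0,0,0,1,0,0,0,0,0],
  [0,0,0,0,0,0,0,0,0,1,0,0,0,0], [0,0,0,0,0,0,0,0,0,0,1,0,0,0], [0,0,0,0,0,0,0,0,0,0,0,1,0,0],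
  [0,0,0,0,0,0,0,0,0,2,0,0,1,0], [0,0,0,0,0,0,0,0,0,0,0,2,0,1]], [[1,0,0,0,0,0,0,0,0,0,0,0,0,0],
  [0,1,0,0,0,0,0,0,0,0,0,0,0,0], [0,0,1,0,0,0,0,0,0,0,0,0,0,0], [0,0,0,1,0,0,0,0,0,0,0,0,0,0],
  [0,0,0,0,1,0,0,0,0,0,0,0,0,0], [0,0,0,0,0,1,0,0,0,0,0,0,0,0], [0,2,0,0,0,0,1,0,0,0,0,0,0,0],
  [0,0,0,2,0,0,0,1,0,0,0,0,0,0], [0,0,2,0,1,0,0,0,1,0,0,0,0,0], [0,0,2,1,0,0,0,0,0,1,0,0,2,0],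
  [2,0,0,1,0,1,0,1,0,0,1,0,0,0], [2,1,2,0,2,0,0,0,1,0,0,1,1,2], [0,0,2,0,0,0,0,0,0,0,0,0,1,0],
  [2,0,0,0,0,0,0,0,0,0,0,0,0,1]]]

/-- The matrices of the unipotent elements. -/
def xL : List (List (List ℕ)) :=
  [[[1,0,0,0,0,0,0,0,0,0,0,0,0,0], [0,1,0,0,0,0,0,0,0,0,0,0,0,0], [0,0,1,0,0,0,0,0,0,0,0,0,0,0],
  [0,0,0,1,0,0,0,0,0,0,0,0,0,0], [0,0,0,0,1,0,0,0,0,0,0,0,0,0], [0,0,0,0,0,1,0,0,0,0,0,0,0,0],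
  [0,0,0,0,0,0,1,0,0,0,0,0,0,0], [0,0,0,0,0,0,0,1,0,0,0,0,0,0], [0,0,0,0,0,0,0,0,1,0,0,0,0,0],
  [0,0,0,0,0,0,0,0,0,1,0,0,0,0], [0,0,0,0,0,0,0,0,0,0,1,0,0,0], [0,0,0,0,0,0,0,0,0,0,0,1,0,0],
  [0,0,0,0,0,0,0,0,0,0,0,0,1,0], [0,0,0,0,0,0,0,0,0,0,0,0,0,1]], [[2,2,0,1,1,2,0,1,2,2,2,2,2,2],
  [0,1,1,2,1,1,2,2,0,1,1,2,2,0], [0,0,2,2,2,0,0,0,2,2,0,0,2,0], [0,0,0,1,1,0,0,2,1,2,0,0,0,0],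
  [0,0,1,1,0,0,0,1,2,0,0,0,2,0], [1,1,0,2,2,0,1,2,1,1,2,0,1,2], [1,0,0,1,0,0,0,2,0,1,1,2,2,1],
  [0,0,1,0,0,0,0,0,1,2,0,0,1,0], [0,0,2,1,0,0,0,1,1,2,0,0,1,0], [0,0,2,2,1,0,0,1,0,2,0,0,2,0],
  [2,1,0,1,2,0,1,1,1,2,1,2,2,1], [2,2,1,0,2,1,1,2,1,2,0,2,0,2], [0,0,1,2,2,0,0,1,0,1,0,0,2,0],
  [1,2,1,0,2,2,1,1,1,0,0,1,0,2]], [[1,1,0,2,2,1,0,2,1,1,1,1,1,1], [2,0,1,0,2,0,2,0,2,0,0,1,1,2],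
  [0,0,1,1,1,0,0,0,1,1,0,0,1,0], [0,0,2,0,0,0,0,2,0,1,0,0,2,0], [0,0,1,0,1,0,0,0,2,0,0,0,0,0],
  [1,0,0,2,0,1,0,2,0,0,2,0,0,0], [2,1,1,0,2,0,1,0,2,0,0,1,1,2], [0,0,2,1,0,0,0,1,0,1,0,0,2,0],
  [0,0,2,1,1,0,0,0,0,1,0,0,1,0], [0,0,2,2,2,0,0,1,2,1,0,0,1,0], [2,1,2,0,2,1,0,1,1,2,0,1,0,1],
  [2,2,0,2,2,2,1,1,2,0,2,1,0,1], [0,0,2,2,1,0,0,0,1,2,0,0,1,0], [2,2,2,2,1,1,0,2,2,1,1,2,2,1]],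
  [[2,0,0,0,0,0,0,0,0,0,0,0,0,0], [1,1,0,0,0,0,0,0,0,0,0,0,0,0], [0,0,2,0,0,0,0,0,0,0,0,0,0,0],
  [0,0,1,1,0,0,0,0,0,0,0,0,0,0], [0,0,1,2,2,0,0,0,0,0,0,0,0,0], [1,2,2,1,0,2,0,0,0,0,0,0,0,0],
  [0,2,1,1,1,1,2,0,0,0,0,0,0,2], [0,0,0,2,1,0,0,2,0,0,0,0,2,0], [0,0,2,1,2,0,0,2,1,0,0,0,1,0],
  [0,0,2,2,0,0,0,1,1,2,0,0,0,0], [2,1,1,2,0,2,2,2,2,2,1,0,0,1], [2,2,2,1,0,0,1,1,1,1,1,2,2,0],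
  [0,0,0,2,1,0,0,0,0,0,0,0,1,0], [0,2,2,0,1,1,0,0,0,0,0,0,0,1]], [[1,1,0,0,0,1,1,0,0,0,1,1,2,0],
  [0,1,1,2,2,1,0,1,1,2,0,1,1,0], [0,0,1,1,1,0,0,1,1,1,0,0,0,0], [0,0,0,1,1,0,0,0,0,1,0,0,0,0],
  [0,0,2,2,0,0,0,1,0,1,0,0,2,0], [2,2,0,0,0,0,1,0,0,0,0,1,1,2], [2,1,1,0,2,1,0,2,1,2,1,1,1,0],
  [0,0,2,1,1,0,0,0,1,1,0,0,0,0], [0,0,1,0,1,0,0,2,1,1,0,0,0,0], [0,0,1,1,2,0,0,2,0,1,0,0,1,0],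
  [1,0,1,1,1,1,2,0,2,1,1,1,2,0], [1,1,2,0,1,2,2,1,2,1,0,1,0,1], [0,0,2,0,0,0,0,1,0,0,0,0,1,0],
  [2,0,1,1,1,0,1,0,2,1,0,0,2,1]], [[2,1,1,2,0,1,2,0,2,2,1,1,1,2], [0,1,2,2,1,2,1,1,0,1,0,1,2,1],
  [0,0,2,1,1,0,0,2,1,1,0,0,2,0], [0,0,0,1,2,0,0,1,0,1,0,0,1,0], [0,0,0,0,2,0,0,1,1,2,0,0,2,0],
  [0,0,0,0,0,2,1,1,1,1,1,2,0,2], [0,0,0,0,0,0,2,0,1,2,2,1,0,0], [0,0,0,0,0,0,0,2,2,1,0,0,0,0],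
  [0,0,0,0,0,0,0,0,1,1,0,0,0,0], [0,0,0,0,0,0,0,0,0,2,0,0,0,0], [0,0,0,0,0,0,0,0,0,0,1,1,0,0],
  [0,0,0,0,0,0,0,0,0,0,0,2,0,0], [0,0,0,0,0,0,0,1,2,1,0,0,1,0], [0,0,0,0,0,0,1,1,0,2,2,1,0,1]],
  [[1,2,2,1,0,2,1,0,1,1,2,2,2,1], [2,2,0,1,1,0,0,1,2,0,1,2,0,0], [0,0,1,2,2,0,0,1,2,2,0,0,1,0],
  [0,0,2,2,0,0,0,0,1,2,0,0,0,0], [0,0,2,0,0,0,0,0,0,1,0,0,2,0], [2,0,0,0,0,0,0,0,0,0,0,1,1,2],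
  [0,2,0,0,1,0,0,0,2,0,0,2,0,0], [0,0,0,2,0,0,0,0,0,2,0,0,0,0], [0,0,1,0,2,0,0,0,2,2,0,0,1,0],
  [0,0,1,1,0,0,0,2,2,1,0,0,0,0], [1,0,0,0,0,2,0,0,0,0,2,2,2,1], [1,1,1,2,0,0,2,2,2,2,2,1,1,0],
  [0,0,0,2,0,0,0,1,0,2,0,0,2,0], [0,2,2,0,0,0,1,0,1,0,0,2,1,2]], [[2,2,0,0,0,2,2,0,0,0,2,2,1,0],
  [1,2,1,2,2,2,1,1,1,2,1,2,0,0], [0,0,2,2,2,0,0,2,2,2,0,0,0,0], [0,0,1,2,2,0,0,1,1,2,0,0,0,0],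
  [0,0,2,1,0,0,0,0,1,2,0,0,1,0], [2,1,1,1,1,0,0,1,1,1,1,2,0,1], [1,0,0,1,0,1,0,2,0,1,2,2,2,1],
  [0,0,1,0,1,0,0,0,2,2,0,0,1,0], [0,0,1,0,0,0,0,1,2,2,0,0,2,0], [0,0,1,1,1,0,0,2,1,2,0,0,2,0],
  [1,0,2,2,1,0,1,2,0,2,2,2,0,2], [1,1,0,1,1,1,2,2,1,0,1,2,0,2], [0,0,1,1,2,0,0,2,0,0,0,0,0,0],
  [1,1,1,0,1,2,2,2,0,2,0,0,1,0]]]

/-- The matrices of the diagonal elements. -/
def hL : List (List (List ℕ)) :=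
  [[[1,0,0,0,0,0,0,0,0,0,0,0,0,0], [0,1,0,0,0,0,0,0,0,0,0,0,0,0], [0,0,1,0,0,0,0,0,0,0,0,0,0,0],
  [0,0,0,1,0,0,0,0,0,0,0,0,0,0], [0,0,0,0,1,0,0,0,0,0,0,0,0,0], [0,0,0,0,0,1,0,0,0,0,0,0,0,0],
  [0,0,0,0,0,0,1,0,0,0,0,0,0,0], [0,0,0,0,0,0,0,1,0,0,0,0,0,0], [0,0,0,0,0,0,0,0,1,0,0,0,0,0],
  [0,0,0,0,0,0,0,0,0,1,0,0,0,0], [0,0,0,0,0,0,0,0,0,0,1,0,0,0], [0,0,0,0,0,0,0,0,0,0,0,1,0,0],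
  [0,0,0,0,0,0,0,0,0,0,0,0,1,0], [0,0,0,0,0,0,0,0,0,0,0,0,0,1]], [[1,0,0,0,0,0,0,0,0,0,0,0,0,0],
  [0,1,0,0,0,0,0,0,0,0,0,0,0,0], [0,0,1,0,0,0,0,0,0,0,0,0,0,0], [0,0,0,1,0,0,0,0,0,0,0,0,0,0],
  [0,0,0,0,1,0,0,0,0,0,0,0,0,0], [0,0,0,0,0,1,0,0,0,0,0,0,0,0], [0,0,0,0,0,0,1,0,0,0,0,0,0,0],
  [0,0,0,0,0,0,0,1,0,0,0,0,0,0], [0,0,0,0,0,0,0,0,1,0,0,0,0,0], [0,0,0,0,0,0,0,0,0,1,0,0,0,0],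
  [0,0,0,0,0,0,0,0,0,0,1,0,0,0], [0,0,0,0,0,0,0,0,0,0,0,1,0,0], [0,0,0,0,0,0,0,0,0,0,0,0,1,0],
  [0,0,0,0,0,0,0,0,0,0,0,0,0,1]], [[2,0,2,1,2,1,1,2,0,1,2,2,0,2], [1,1,1,2,0,2,1,1,1,1,0,1,2,0],
  [0,0,2,0,1,0,0,1,2,2,0,0,2,0], [0,0,1,1,2,0,0,1,0,1,0,0,0,0], [0,0,2,2,0,0,0,2,2,1,0,0,0,0],
  [2,2,1,2,1,0,2,1,0,2,2,1,2,0], [0,1,1,2,0,1,1,1,1,1,1,2,1,1], [0,0,0,1,1,0,0,1,1,2,0,0,1,0],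
  [0,0,1,1,1,0,0,0,1,1,0,0,2,0], [0,0,2,1,0,0,0,0,0,1,0,0,2,0], [1,1,2,1,2,1,0,1,1,0,1,1,1,2],
  [2,1,2,0,2,0,0,0,1,0,0,1,1,2], [0,0,2,0,2,0,0,1,2,1,0,0,0,0], [2,0,0,0,2,2,1,0,1,2,2,1,2,0]],
  [[2,1,1,0,2,1,1,2,2,2,0,2,0,1], [0,1,2,2,0,2,0,2,0,0,2,0,1,1], [0,0,2,1,1,0,0,1,0,2,0,0,1,0],
  [0,0,0,1,2,0,0,0,2,0,0,0,1,0], [0,0,0,0,2,0,0,1,0,1,0,0,2,0], [0,0,0,0,0,2,1,1,1,1,0,1,0,2],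
  [0,2,1,1,0,1,2,1,1,2,0,1,2,2], [0,0,0,2,1,0,0,2,0,1,0,0,2,0], [0,0,1,2,1,0,0,0,1,0,0,0,1,0],
  [0,0,1,0,1,0,0,1,0,1,0,0,2,0], [1,2,2,1,0,1,0,1,0,0,1,0,1,1], [1,0,2,1,1,1,1,1,1,2,0,1,2,2],
  [0,0,1,2,2,0,0,0,2,0,0,0,0,0], [1,2,2,0,1,2,0,2,1,0,2,0,0,0]], [[1,1,1,1,2,0,1,2,2,0,1,1,1,1],
  [0,1,1,2,2,1,1,0,2,2,1,2,0,2], [0,0,1,1,0,0,0,1,1,1,0,0,1,0], [0,0,0,1,1,0,0,1,1,2,0,0,2,0],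
  [0,0,1,1,1,0,0,0,2,1,0,0,0,0], [1,1,1,1,2,1,0,0,1,2,2,1,1,0], [1,1,0,0,0,0,2,0,0,0,0,2,2,1],
  [0,0,1,1,0,0,0,2,0,2,0,0,1,0], [0,0,0,2,2,0,0,0,0,2,0,0,0,0], [0,0,2,2,2,0,0,2,2,2,0,0,0,0],
  [0,2,2,1,1,2,0,2,2,1,0,2,2,0], [2,2,0,0,0,2,2,0,0,0,2,2,1,0], [0,0,0,2,2,0,0,1,2,2,0,0,2,0],
  [0,2,2,2,2,2,1,0,1,2,2,2,2,2]], [[1,1,2,2,0,2,1,0,2,1,1,2,1,2], [0,1,1,2,2,1,2,2,0,2,0,2,2,1],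
  [0,0,1,1,2,0,0,1,1,2,0,0,2,0], [0,0,0,1,1,0,0,2,0,2,0,0,1,0], [0,0,0,0,1,0,0,2,1,1,0,0,2,0],
  [0,0,0,0,0,1,2,2,1,2,1,1,0,2], [0,1,1,2,2,1,0,2,1,0,2,1,2,1], [0,0,0,1,1,0,0,0,2,1,0,0,1,0],
  [0,0,1,1,1,0,0,2,1,0,0,0,0,0], [0,0,2,1,0,0,0,2,1,2,0,0,1,0], [1,1,2,0,1,1,2,2,2,2,1,0,2,0],
  [2,1,2,1,1,0,2,1,2,0,1,2,1,1], [0,0,1,1,2,0,0,0,0,1,0,0,0,0], [1,1,2,2,0,2,0,2,2,2,0,1,1,0]],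
  [[1,0,2,0,1,1,1,2,0,2,0,2,0,0], [0,1,0,0,0,0,0,0,0,0,2,0,1,1], [0,0,1,0,1,0,0,1,0,2,0,0,0,0],
  [0,0,0,1,0,0,0,0,2,0,0,0,1,0], [0,0,1,0,2,0,0,1,0,1,0,0,0,0], [1,0,2,0,1,2,1,1,0,1,0,1,0,0],
  [1,1,1,0,1,1,2,1,0,2,2,1,1,1], [0,0,1,1,1,0,0,2,2,1,0,0,1,0], [0,0,0,2,2,0,0,0,1,1,0,0,1,0],
  [0,0,1,1,0,0,0,0,0,2,0,0,2,0], [0,2,2,1,2,2,0,2,2,0,1,1,2,1], [1,1,1,0,1,0,0,0,1,0,0,2,1,2],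
  [0,0,1,2,1,0,0,1,2,2,0,0,0,0], [1,2,2,1,1,1,1,2,1,2,2,2,0,0]], [[2,2,0,2,2,2,1,1,2,0,2,1,0,1],
  [2,0,1,1,2,0,2,1,0,1,1,1,0,1], [0,0,2,2,2,0,0,1,2,1,0,0,1,0], [0,0,2,0,0,0,0,2,1,1,0,0,1,0],
  [0,0,2,0,2,0,0,0,1,1,0,0,2,0], [2,0,0,2,0,2,0,1,0,2,1,1,1,2], [2,2,1,1,0,0,1,1,2,1,1,0,0,1],
  [0,0,2,2,0,0,0,1,1,0,0,0,1,0], [0,0,2,2,1,0,0,1,1,1,0,0,1,0], [0,0,2,0,1,0,0,1,0,1,0,0,0,0],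
  [2,2,2,0,2,1,1,1,0,2,1,1,1,1], [2,0,2,0,2,1,1,1,0,2,0,1,0,0], [0,0,0,0,2,0,0,0,1,2,0,0,2,0],
  [0,0,2,1,0,2,0,0,1,1,1,2,2,2]]]

/-- The matrix of the Weyl element. -/
def nM : List (List ℕ) :=
  [[1,0,1,2,1,2,2,1,0,2,1,1,0,1], [1,1,1,2,0,2,1,1,1,1,0,1,2,0], [0,0,1,0,2,0,0,2,1,1,0,0,1,0],
  [0,0,1,1,2,0,0,1,0,1,0,0,0,0], [0,0,1,1,0,0,0,1,1,2,0,0,0,0], [1,1,2,1,2,0,1,2,0,1,1,2,1,0],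
  [1,0,0,0,0,1,0,0,0,0,2,2,1,2], [0,0,1,0,1,0,0,0,2,2,0,0,2,0], [0,0,1,0,0,0,0,1,1,0,0,0,0,0],
  [0,0,1,1,1,0,0,1,1,1,0,0,0,0], [1,0,2,1,1,0,1,2,2,1,1,0,1,0], [1,1,0,0,0,1,1,0,0,0,1,1,2,0],
  [0,0,0,0,1,0,0,0,0,2,0,0,1,0], [0,0,1,2,0,1,0,1,1,1,0,2,2,1]]

/-- The words of the unipotent elements. -/
def xW : List (List ℕ) :=
  [[], [0, 7, 4], [1, 0, 3, 7], [0, 0, 1, 4, 1], [2, 3, 1], [1, 0, 6, 5, 5], [0, 6, 1, 2], [6, 3, 4]]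

/-- The words of the diagonal elements. -/
def hW : List (List ℕ) :=
  [[], [], [7, 0, 4], [1, 0, 1, 6], [0, 0, 5, 5], [0, 7, 0, 3], [2, 5, 3, 4], [5, 0, 6]]

/-- The generators. -/
noncomputable def gG : List (chevG2.group (ZMod 3)) :=
  gW.map fun w => wordG xg (w.map fun q => (q.1, (q.2 : ZMod 3)))

/-- The value of a word in the generators. -/
noncomputable def ev (w : List ℕ) : chevG2.group (ZMod 3) := (w.map fun i => gG.getD i 1).prod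

theorem gM_eq : (∀ w ∈ gW, ∀ q ∈ w, q.1 < 12) ∧ gW.map (wordM tabG2 12 2 3) = gM := by decide +kernel

theorem rep_ev (w : List ℕ) : RepM (ev w) (evalM 3 14 gM w) := by
  refine RepM.eval (p := 3) ?_ w
  rw [← gM_eq.2, gG, List.forall₂_map_left_iff, List.forall₂_map_right_iff, List.forall₂_same]
  exact fun w hw => RepM.word agreeG2 three_pos (gM_eq.1 w hw)

theorem rep_x (t : F8) : RepM (ev (xW.getD t.1 [])) (xL.getD t.1 []) :=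
  (show ∀ t : F8, evalM 3 14 gM (xW.getD t.1 []) = xL.getD t.1 [] by decide +kernel) t ▸ rep_ev _

theorem rep_h (t : F8) : RepM (ev (hW.getD t.1 [])) (hL.getD t.1 []) :=
  (show ∀ t : F8, evalM 3 14 gM (hW.getD t.1 []) = hL.getD t.1 [] by decide +kernel) t ▸ rep_ev _

theorem rep_n : RepM (ev [3, 2, 0]) nM :=
  (show evalM 3 14 gM [3, 2, 0] = nM by decide +kernel) ▸ rep_ev _

/-- The product of two matrices. -/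
noncomputable abbrev mm : List (List ℕ) → List (List ℕ) → List (List ℕ) := mulM 3 (List.replicate 14 0)

theorem rel : SL2Rel (fun t : F8 => ev (xW.getD t.1 [])) (fun t => ev (hW.getD t.1 [])) (ev [3, 2, 0]) where
  add s t := (rep_x _).eq' ((rep_x s).mul (p := 3) (rep_x t) 14) (by revert s t; decide +kernel)
  mul s t hs ht := (rep_h _).eq' ((rep_h s).mul (p := 3) (rep_h t) 14) (by revert s t; decide +kernel)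
  conj s t hs := ((rep_h s).mul (p := 3) (rep_x t) 14).eq' ((rep_x _).mul (p := 3) (rep_h s) 14) (by
    rw [pow_two]; revert s t; decide +kernel)
  sq := (rep_n.mul (p := 3) rep_n 14).eq' (rep_h _) (by decide +kernel)
  rank t ht := ((rep_n.mul (p := 3) (rep_x t) 14).mul (p := 3) rep_n 14).eq'
    (((rep_x _).mul (p := 3) (rep_n.mul (p := 3) (rep_h _) 14) 14).mul (p := 3) (rep_x _) 14) (by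
      revert t; decide +kernel)

theorem n_ne : ev [3, 2, 0] ≠ 1 := fun h => by
  have := (h ▸ rep_n).entry (RepM.one (p := 3)) 0 (Sum.inr (2 : Fin 12))
  revert this
  decide +kernel

theorem ev_mem {θ ψ : ZMod 3 →+* ZMod 3} {σ : chevG2.group (ZMod 3) →* chevG2.group (ZMod 3)}
    (E : G2Data 1 θ ψ σ) (w : List ℕ) : ev w ∈ E.tw.G1 := by
  refine Subgroup.list_prod_mem _ fun g hg => ?_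
  obtain ⟨i, -, rfl⟩ := List.mem_map.1 hg
  by_cases hi : i < gG.length
  · refine (?_ : ∀ g ∈ gG, g ∈ E.tw.G1) _ (by simp [List.getD_eq_getElem?_getD, hi])
    simp only [gG, gW, List.map_cons, List.map_nil, List.forall_mem_cons, ← RG_pos (θ := θ),
      ← RG_neg (θ := θ) E.three, E.memU, E.memV, true_and]
    simp
  · simp [List.getD_eq_getElem?_getD, List.getElem?_eq_none (not_lt.1 hi)]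

theorem derived : Nonempty (commutator (twistedG2 (ZMod 3) 1) ≃* SL(2, F8)) := by
  obtain ⟨θ, ψ, σ, E⟩ := g2Data (K := ZMod 3) (m := 0) rfl
  have hc := E.card (q := 3) rfl rfl
  change G2Data 1 θ ψ σ at E
  change Nat.card (twistedG2 (ZMod 3) 1) = 1512 at hc
  rw [← E.map_G1] at hc ⊢
  obtain ⟨φ, h1, h2⟩ := rel.exists_hom
  haveI : IsSimpleGroup SL(2, F8) := by
    haveI := ProjectiveSpecialLinearGroup.rank_two_simple (F := F8) (by simp [F8.card])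
    exact (Small.slEquivPSL (ι := Fin 2) (F := F8) rfl).isSimpleGroup
  have hcard : Nat.card SL(2, F8) = 504 := by rw [Lin.card_SL_two]; rfl
  have h3 : ∀ g, φ g ∈ E.tw.G1 := sl2_eq_top (E.tw.G1.comap φ) 
    (fun t => by rw [Subgroup.mem_comap, h1]; exact ev_mem E _)
    (by rw [Subgroup.mem_comap, h2]; exact ev_mem E _)
  have h4 : Function.Injective φ := by
    rw [← MonoidHom.ker_eq_bot_iff]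
    refine (IsSimpleGroup.eq_bot_or_eq_top_of_normal _ inferInstance).resolve_right fun h => n_ne ?_
    exact h2.symm.trans (h ▸ Subgroup.mem_top _ : wM ∈ φ.ker)
  let φ' := (BN.upEquiv E.tw.G1).symm.toMonoidHom.comp (φ.codRestrict _ h3)
  have h5 : Function.Injective φ' :=
    (BN.upEquiv _).symm.injective.comp fun a b h => h4 (congrArg Subtype.val h)
  haveI : Finite (E.tw.G1.map (chevG2.group (ZMod 3)).subtype) := Nat.finite_of_card_ne_zero (by omega)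
  rw [commutator_eq_range φ' h5 (by rw [hcard]; norm_num) (by rw [hcard, hc])]
  exact ⟨(MonoidHom.ofInjective h5).symm⟩

end Ree3

end CA.CG
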